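import Groth.Agent.SweepSix.GeomConn
import Mathlib

/-!
Connected group schemes locally of finite type over algebraically closed fields are irreducible.
-/

set_option autoImplicit false

universe u

open CategoryTheory CategoryTheory.Limits MonoidalCategory CartesianMonoidalCategory AlgebraicGeometry
open scoped MonObj

namespace Groth.Agent.HomogSep

variable {F : Type u} [Field F] {G : Over (Spec (CommRingCat.of F))} [GrpObj G]

/-- The translation carrying one rational point to another. -/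
theorem exists_homeo [IsAlgClosed F] [LocallyOfFiniteType G.hom] (a b : G.left) (ha : IsClosed {a}) (hb : IsClosed {b}) :
    ∃ φ : G.left ≃ₜ G.left, φ a = b := by
  let pa : 𝟙_ (Over (Spec (CommRingCat.of F))) ⟶ G :=
    Over.homMk _ ((pointEquivClosedPoint G.hom).symm ⟨a, ha⟩).2
  let pb : 𝟙_ (Over (Spec (CommRingCat.of F))) ⟶ G :=
    Over.homMk _ ((pointEquivClosedPoint G.hom).symm ⟨b, hb⟩).2
  let m : (𝟙_ (Over (Spec (CommRingCat.of F))) ⟶ G) → (G ⟶ G) := fun c => (toUnit G ≫ c) * 𝟙 G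
  have hm : ∀ c d, m c ≫ m d = m (d * c) := fun c d => by
    simp only [m, MonObj.comp_mul, Category.comp_id, ← Category.assoc]
    rw [show ((toUnit G ≫ c * 𝟙 G) ≫ toUnit G) = toUnit G from Subsingleton.elim _ _, ← mul_assoc,
      ← MonObj.comp_mul]
  have hm1 : m 1 = 𝟙 G := by simp [m, MonObj.comp_one]
  let c := pb * pa⁻¹
  let i : G ≅ G := ⟨m c, m c⁻¹, by rw [hm, inv_mul_cancel, hm1], by rw [hm, mul_inv_cancel, hm1]⟩
  have hpa : pa ≫ m c = pb := by
    simp only [m, MonObj.comp_mul, Category.comp_id, ← Category.assoc,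
      Subsingleton.elim (pa ≫ toUnit G) (𝟙 _), Category.id_comp]
    simp [c]
  refine ⟨Scheme.homeoOfIso ((Over.forget _).mapIso i), ?_⟩
  show i.hom.left a = b
  have ea : pa.left (IsLocalRing.closedPoint F) = a := by
    have h := (pointEquivClosedPoint G.hom).apply_symm_apply ⟨a, ha⟩
    exact congrArg Subtype.val h
  have eb : pb.left (IsLocalRing.closedPoint F) = b := by
    have h := (pointEquivClosedPoint G.hom).apply_symm_apply ⟨b, hb⟩
    exact congrArg Subtype.val h
  rw [← ea, ← eb, ← hpa, Over.comp_left]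
  exact (Scheme.Hom.comp_apply _ _ _).symm

theorem isClosed_sUnion_of_finite' {X : Type u} [TopologicalSpace X] {S : Set (Set X)} (hS : S.Finite)
    (h : ∀ s ∈ S, IsClosed s) : IsClosed (⋃₀ S) := by
  rw [Set.sUnion_eq_biUnion]
  exact hS.isClosed_biUnion h

/-- A connected group locally of finite type over an algebraically closed field is irreducible. -/
theorem irreducibleSpace_grp [IsAlgClosed F] [LocallyOfFiniteType G.hom] [hconn : ConnectedSpace G.left] :
    IrreducibleSpace G.left := by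
  classical
  haveI : IsLocallyNoetherian G.left := LocallyOfFiniteType.isLocallyNoetherian G.hom
  haveI : JacobsonSpace G.left := LocallyOfFiniteType.jacobsonSpace G.hom
  -- finitely many components near each point
  have hfin : ∀ x : G.left, ∃ U : Set G.left, IsOpen U ∧ x ∈ U ∧
      {Z | Z ∈ irreducibleComponents G.left ∧ (Z ∩ U).Nonempty}.Finite := by
    intro x
    obtain ⟨V, hV, hxV, -⟩ := exists_isAffineOpen_mem_and_subset (X := G.left) (x := x) (U := ⊤) trivial
    haveI : IsNoetherianRing Γ(G.left, V) := IsLocallyNoetherian.component_noetherian ⟨V, hV⟩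
    haveI : TopologicalSpace.NoetherianSpace (V : Set G.left) := noetherianSpace_of_isAffineOpen V hV
    refine ⟨V, V.2, hxV, ?_⟩
    have hf := TopologicalSpace.NoetherianSpace.finite_irreducibleComponents (α := (V : Set G.left))
    let v : ↥(V : Set G.left) → G.left := fun y => y.1
    refine (hf.image fun Z => closure (v '' Z)).subset ?_
    rintro Z ⟨hZ, hne⟩
    refine ⟨v ⁻¹' Z, preimage_mem_irreducibleComponents hZ V.2.isOpenEmbedding_subtypeVal
      (by rwa [Subtype.range_coe]), ?_⟩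
    show closure (v '' (v ⁻¹' Z)) = Z
    rw [Subtype.image_preimage_coe, Set.inter_comm]
    refine subset_antisymm (closure_minimal Set.inter_subset_left (isClosed_of_mem_irreducibleComponents Z hZ)) ?_
    exact subset_closure_inter_of_isPreirreducible_of_isOpen hZ.1.2 V.2 hne
  -- every component is a neighbourhood of the points lying on no other component
  have hnhd : ∀ Z ∈ irreducibleComponents G.left, ∀ x ∈ Z,
      (∀ Z' ∈ irreducibleComponents G.left, x ∈ Z' → Z' = Z) → ∃ W, W ⊆ Z ∧ IsOpen W ∧ x ∈ W := by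
    intro Z hZ x hx huniq
    obtain ⟨U, hU, hxU, hf⟩ := hfin x
    let others := {Z' | Z' ∈ irreducibleComponents G.left ∧ (Z' ∩ U).Nonempty} \ {Z}
    refine ⟨U \ ⋃₀ others, fun y hy => ?_, hU.sdiff (isClosed_sUnion_of_finite' (hf.subset Set.sdiff_subset) ?_), hxU, ?_⟩
    · obtain ⟨Z', hZ', hyZ'⟩ : ∃ Z' ∈ irreducibleComponents G.left, y ∈ Z' :=
        ⟨irreducibleComponent y, irreducibleComponent_mem_irreducibleComponents y, mem_irreducibleComponent⟩
      by_contra hyZ
      exact hy.2 ⟨Z', ⟨⟨hZ', y, hyZ', hy.1⟩, fun h => hyZ (h ▸ hyZ')⟩, hyZ'⟩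
    · exact fun Z' hZ' => isClosed_of_mem_irreducibleComponents Z' hZ'.1.1
    · rintro ⟨Z', hZ', hxZ'⟩
      exact hZ'.2 (huniq Z' hZ'.1.1 hxZ')
  -- a closed point on a single component
  obtain ⟨x₀⟩ : Nonempty G.left := inferInstance
  obtain ⟨U, hU, hxU, hf⟩ := hfin x₀
  let Z := irreducibleComponent x₀
  have hZ : Z ∈ irreducibleComponents G.left := irreducibleComponent_mem_irreducibleComponents x₀
  let others := {Z' | Z' ∈ irreducibleComponents G.left ∧ (Z' ∩ U).Nonempty} \ {Z}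
  have hne : ((U \ ⋃₀ others) ∩ Z).Nonempty := by
    by_contra h
    have hsub : Z ∩ U ⊆ ⋃₀ others := fun y hy => by
      by_contra hy'
      exact h ⟨y, ⟨hy.2, hy'⟩, hy.1⟩
    have hcl : IsClosed (⋃₀ others) :=
      isClosed_sUnion_of_finite' (hf.subset Set.sdiff_subset) fun Z' hZ' => isClosed_of_mem_irreducibleComponents Z' hZ'.1.1
    have hsub' : Z ⊆ ⋃₀ others :=
      (subset_closure_inter_of_isPreirreducible_of_isOpen hZ.1.2 hU ⟨x₀, mem_irreducibleComponent, hxU⟩).trans
        (closure_minimal hsub hcl)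
    obtain ⟨Z', hZ', hsub''⟩ := isIrreducible_iff_sUnion_isClosed.1 hZ.1 (hf.subset Set.sdiff_subset).toFinset
      (fun Z' hZ' => isClosed_of_mem_irreducibleComponents Z' ((Set.Finite.mem_toFinset _).1 hZ').1.1)
      (by rwa [Set.Finite.coe_toFinset])
    rw [Set.Finite.mem_toFinset] at hZ'
    exact hZ'.2 (subset_antisymm (hZ.2 hZ'.1.1.1 hsub'') hsub'')
  obtain ⟨y, hyU, hyZ⟩ := hne
  have huniq_y : ∀ Z' ∈ irreducibleComponents G.left, y ∈ Z' → Z' = Z := fun Z' hZ' hy' => by
    by_contra hne'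
    exact hyU.2 ⟨Z', ⟨⟨hZ', y, hy', hyU.1⟩, hne'⟩, hy'⟩
  obtain ⟨W, hWZ, hW, hyW⟩ := hnhd Z hZ y hyZ huniq_y
  have hW' : IsOpen (W ∩ (U \ ⋃₀ others)) := hW.inter (hU.sdiff
    (isClosed_sUnion_of_finite' (hf.subset Set.sdiff_subset) fun Z' hZ' => isClosed_of_mem_irreducibleComponents Z' hZ'.1.1))
  obtain ⟨c, hcW, hc⟩ := nonempty_inter_closedPoints
    (show (W ∩ (U \ ⋃₀ others)).Nonempty from ⟨y, hyW, hyU⟩) hW'.isLocallyClosed
  have hc' : IsClosed {c} := mem_closedPoints_iff.1 hc
  have hcuniq : ∀ Z' ∈ irreducibleComponents G.left, c ∈ Z' → Z' = Z := fun Z' hZ' hc' => by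
    by_contra hne'
    exact hcW.2.2 ⟨Z', ⟨⟨hZ', c, hc', hcW.2.1⟩, hne'⟩, hc'⟩
  -- hence all closed points
  have hall : ∀ d : G.left, IsClosed {d} → ∀ Z₁ ∈ irreducibleComponents G.left, ∀ Z₂ ∈ irreducibleComponents G.left,
      d ∈ Z₁ → d ∈ Z₂ → Z₁ = Z₂ := by
    intro d hd Z₁ hZ₁ Z₂ hZ₂ h₁ h₂
    obtain ⟨φ, hφ⟩ := exists_homeo d c hd hc'
    have him : ∀ Z' ∈ irreducibleComponents G.left, φ '' Z' ∈ irreducibleComponents G.left := fun Z' hZ' => by
      refine ⟨hZ'.1.image φ φ.continuous.continuousOn, fun T hT hsub => ?_⟩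
      have h3 : Z' ⊆ φ.symm '' T := fun z hz => ⟨φ z, hsub ⟨z, hz, rfl⟩, φ.symm_apply_apply z⟩
      have h4 := hZ'.2 (hT.image φ.symm φ.symm.continuous.continuousOn) h3
      intro t ht
      exact ⟨φ.symm t, h4 ⟨t, ht, rfl⟩, φ.apply_symm_apply t⟩
    have e₁ := hcuniq _ (him Z₁ hZ₁) ⟨d, h₁, hφ⟩
    have e₂ := hcuniq _ (him Z₂ hZ₂) ⟨d, h₂, hφ⟩
    exact φ.injective.image_injective (e₁.trans e₂.symm)
  -- components are disjoint
  have hdisj : ∀ x : G.left, ∀ Z' ∈ irreducibleComponents G.left, x ∈ Z' → Z' = irreducibleComponent x := by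
    intro x Z' hZ' hx
    have hcl : IsClosed (Z' ∩ irreducibleComponent x) :=
      (isClosed_of_mem_irreducibleComponents Z' hZ').inter isClosed_irreducibleComponent
    obtain ⟨d, hd, hd'⟩ := nonempty_inter_closedPoints
      (show (Z' ∩ irreducibleComponent x).Nonempty from ⟨x, hx, mem_irreducibleComponent⟩) hcl.isLocallyClosed
    exact hall d (mem_closedPoints_iff.1 hd') Z' hZ' _ (irreducibleComponent_mem_irreducibleComponents x) hd.1 hd.2
  have hopen : IsOpen Z := isOpen_iff_forall_mem_open.2 fun x hx =>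
    hnhd Z hZ x hx fun Z' hZ' hxZ' => (hdisj x Z' hZ' hxZ').trans (hdisj x Z hZ hx).symm
  have huniv : Z = Set.univ :=
    IsClopen.eq_univ ⟨isClosed_of_mem_irreducibleComponents Z hZ, hopen⟩ ⟨x₀, mem_irreducibleComponent⟩
  have h5 := hZ.1
  rw [huniv] at h5
  exact { toPreirreducibleSpace := ⟨h5.2⟩, toNonempty := inferInstance }

end Groth.Agent.HomogSep
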