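import Groth.Agent.HomogSepLib.Irr
import Groth.Agent.GrpShear
import Groth.Prelude.Def_Red

/-!
Homogeneous spaces under groups with connected fibres are separated.
-/

set_option autoImplicit false

noncomputable section

universe u

open CategoryTheory CategoryTheory.Limits MonoidalCategory CartesianMonoidalCategory AlgebraicGeometry
open scoped MonObj

namespace Groth.Agent.HomogSep

variable {S : Scheme.{u}}

/-- Two points with values in a field agree when their pair lies on the diagonal of a separated scheme. -/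
theorem eq_of_mem_range_diag {Y Z : Over S} [IsReduced Y.left] [Subsingleton Y.left] [IsSeparated Z.hom]
    (u₁ u₂ : Y ⟶ Z) (p : Y.left) (h : (lift u₁ u₂).left p ∈ Set.range (lift (𝟙 Z) (𝟙 Z)).left) : u₁ = u₂ := by
  haveI : IsClosedImmersion (lift (𝟙 Z) (𝟙 Z)).left := by
    show IsClosedImmersion (pullback.diagonal Z.hom)
    infer_instance
  obtain ⟨x, hx⟩ := h
  obtain ⟨w, hw, -⟩ := Scheme.Pullback.exists_preimage_pullback (f := (lift u₁ u₂).left)
    (g := (lift (𝟙 Z) (𝟙 Z)).left) p x hx.symm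
  haveI : Surjective (pullback.fst (lift u₁ u₂).left (lift (𝟙 Z) (𝟙 Z)).left) :=
    ⟨fun q => ⟨w, hw.trans (Subsingleton.elim _ _)⟩⟩
  haveI := isIso_of_isClosedImmersion_of_surjective (pullback.fst (lift u₁ u₂).left (lift (𝟙 Z) (𝟙 Z)).left)
  have e : (lift u₁ u₂).left = inv (pullback.fst (lift u₁ u₂).left (lift (𝟙 Z) (𝟙 Z)).left) ≫
      pullback.snd (lift u₁ u₂).left (lift (𝟙 Z) (𝟙 Z)).left ≫ (lift (𝟙 Z) (𝟙 Z)).left := by
    rw [← pullback.condition, IsIso.inv_hom_id_assoc]
  have h₁ : u₁.left = (lift u₁ u₂).left ≫ (fst Z Z).left := by rw [← Over.comp_left, lift_fst]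
  have h₂ : u₂.left = (lift u₁ u₂).left ≫ (snd Z Z).left := by rw [← Over.comp_left, lift_snd]
  refine Over.OverMorphism.ext ?_
  rw [h₁, h₂, e, Category.assoc, Category.assoc, Category.assoc, Category.assoc, ← Over.comp_left, ← Over.comp_left,
    lift_fst, lift_snd]

/-- A connected group over a field is geometrically connected. -/
theorem gc_of_unit {k : Type u} [Field k] (G₀ : Over (Spec (CommRingCat.of k))) [GrpObj G₀] [ConnectedSpace G₀.left] :
    GeometricallyConnected G₀.hom := by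
  haveI : GeometricallyConnected (𝟙 (Spec (CommRingCat.of k))) := by
    have := SweepSix.GeomConn.gc_specMap (k := k) k (Subsingleton.elim _ _)
    rwa [Algebra.algebraMap_self, CommRingCat.ofHom_id, Spec.map_id] at this
  haveI : Nonempty (Spec (CommRingCat.of k)) := ⟨(IsLocalRing.closedPoint k : PrimeSpectrum k)⟩
  exact SweepSix.GeomConn.gc_of_source (T := Spec (CommRingCat.of k)) G₀.hom η[G₀].left
    (𝟙 (Spec (CommRingCat.of k))) (Over.w η[G₀])

variable {G X : Over S} [GrpObj G] (a : AlgGrp.Action G X)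

/-- The closure of the diagonal is invariant. -/
theorem mem_closure_diag [UniversallyOpen G.hom] {Y : Over S} (g : Y ⟶ G) (y : Y ⟶ X ⊗ X) (p : Y.left)
    (h : y.left p ∈ closure (Set.range (lift (𝟙 X) (𝟙 X)).left)) :
    (lift (lift g (y ≫ fst X X) ≫ a.act) (lift g (y ≫ snd X X) ≫ a.act)).left p ∈
      closure (Set.range (lift (𝟙 X) (𝟙 X)).left) := by
  let Ψ : G ⊗ (X ⊗ X) ⟶ X ⊗ X :=
    lift (lift (fst _ _) (snd _ _ ≫ fst X X) ≫ a.act) (lift (fst _ _) (snd _ _ ≫ snd X X) ≫ a.act)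
  let π := (snd G (X ⊗ X)).left
  have hπ : IsOpenMap π := by
    show IsOpenMap (pullback.snd G.hom (X ⊗ X).hom)
    exact (pullback.snd G.hom (X ⊗ X).hom).isOpenMap
  have e : lift g y ≫ Ψ = lift (lift g (y ≫ fst X X) ≫ a.act) (lift g (y ≫ snd X X) ≫ a.act) := by
    simp only [Ψ, comp_lift, comp_lift_assoc, lift_fst, lift_snd_assoc]
  rw [← e, Over.comp_left, Scheme.Hom.comp_apply]
  have h1 : (lift g y).left p ∈ closure (π ⁻¹' Set.range (lift (𝟙 X) (𝟙 X)).left) := by
    apply hπ.preimage_closure_subset_closure_preimage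
    show π ((lift g y).left p) ∈ closure _
    rw [← Scheme.Hom.comp_apply, ← Over.comp_left, lift_snd]
    exact h
  refine closure_mono ?_ (image_closure_subset_closure_image Ψ.left.continuous ⟨_, h1, rfl⟩)
  rintro _ ⟨v, ⟨x, hx⟩, rfl⟩
  obtain ⟨w, hw, -⟩ := Scheme.Pullback.exists_preimage_pullback (f := π) (g := (lift (𝟙 X) (𝟙 X)).left) v x hx.symm
  let P : Over S := Over.mk (pullback.fst π (lift (𝟙 X) (𝟙 X)).left ≫ (G ⊗ (X ⊗ X)).hom)
  let k : P ⟶ G ⊗ (X ⊗ X) := Over.homMk (pullback.fst _ _)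
  let xk : P ⟶ X := Over.homMk (pullback.snd _ _) (by
    show pullback.snd _ _ ≫ X.hom = pullback.fst _ _ ≫ (G ⊗ (X ⊗ X)).hom
    rw [← Over.w (snd G (X ⊗ X)), pullback.condition_assoc, Over.w (lift (𝟙 X) (𝟙 X))])
  have hk : k ≫ snd G (X ⊗ X) = xk ≫ lift (𝟙 X) (𝟙 X) := Over.OverMorphism.ext pullback.condition
  have hΨ : k ≫ Ψ = (lift (k ≫ fst _ _) xk ≫ a.act) ≫ lift (𝟙 X) (𝟙 X) := by
    simp only [Ψ, comp_lift, comp_lift_assoc, Category.comp_id, reassoc_of% hk, lift_fst, lift_snd, Category.assoc]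
  refine ⟨(lift (k ≫ fst _ _) xk ≫ a.act).left w, ?_⟩
  rw [← Scheme.Hom.comp_apply, ← Over.comp_left, ← hΨ, Over.comp_left, Scheme.Hom.comp_apply]
  exact congrArg Ψ.left hw

theorem isSeparated_of_transitive [LocallyOfFiniteType G.hom] [UniversallyOpen G.hom]
    (hconn : ∀ s : S, _root_.IsConnected (G.hom.base ⁻¹' {s}))
    (hΦ : Surjective (lift a.act (snd G X)).left) : IsSeparated X.hom := by
  haveI := hΦ
  suffices hcl : IsClosed (Set.range (lift (𝟙 X) (𝟙 X)).left) from
    ⟨IsClosedImmersion.of_isPreimmersion (pullback.diagonal X.hom) hcl⟩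
  refine closure_subset_iff_isClosed.1 fun z hz => ?_
  let K : Type u := AlgebraicClosure ((X ⊗ X).left.residueField z)
  let κz : Spec (CommRingCat.of K) ⟶ (X ⊗ X).left :=
    Spec.map (CommRingCat.ofHom (algebraMap ((X ⊗ X).left.residueField z) K)) ≫ (X ⊗ X).left.fromSpecResidueField z
  let κ : Spec (CommRingCat.of K) ⟶ S := κz ≫ (X ⊗ X).hom
  let T : Over S := Over.mk κ
  let y : T ⟶ X ⊗ X := Over.homMk κz
  let pt : T.left := IsLocalRing.closedPoint K
  haveI : Subsingleton T.left := inferInstanceAs (Subsingleton (PrimeSpectrum K))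
  have hy : ∀ q, y.left q = z := fun q => by
    show κz q = z
    rw [Scheme.Hom.comp_apply]
    exact Scheme.fromSpecResidueField_apply _ _
  -- the group over the geometric point
  let s : S := κ (IsLocalRing.closedPoint K)
  haveI : ConnectedSpace ↥(pullback G.hom (S.fromSpecResidueField s)) := by
    haveI : ConnectedSpace (G.hom.base ⁻¹' {s}) := isConnected_iff_connectedSpace.1 (hconn s)
    exact (G.hom.fiberHomeo s).symm.surjective.connectedSpace (G.hom.fiberHomeo s).symm.continuous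
  let Gs := Red.bc (S.fromSpecResidueField s) G
  haveI : ConnectedSpace Gs.left := ‹ConnectedSpace ↥(pullback G.hom (S.fromSpecResidueField s))›
  haveI : GeometricallyConnected Gs.hom := gc_of_unit (k := S.residueField s) Gs
  let d : Spec (CommRingCat.of K) ⟶ Spec (S.residueField s) :=
    Spec.map (S.descResidueField (Scheme.stalkClosedPointTo κ))
  have hd : d ≫ S.fromSpecResidueField s = T.hom :=
    Scheme.descResidueField_stalkClosedPointTo_fromSpecResidueField K S κ
  let GK := Red.bc T.hom G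
  haveI : LocallyOfFiniteType GK.hom := inferInstanceAs (LocallyOfFiniteType (pullback.snd G.hom T.hom))
  haveI : Nonempty GK.left := ⟨η[GK].left pt⟩
  haveI : ConnectedSpace ↥(pullback Gs.hom d) := by
    let e : pullback Gs.hom d ≅ pullback G.hom T.hom :=
      pullbackLeftPullbackSndIso G.hom (S.fromSpecResidueField s) d ≪≫ pullback.congrHom rfl hd
    haveI : Nonempty ↥(pullback Gs.hom d) := ⟨e.inv (η[GK].left pt)⟩
    exact GeometricallyConnected.connectedSpace_of_subsingleton (f := pullback.snd Gs.hom d)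
  haveI : ConnectedSpace GK.left := by
    let e : pullback Gs.hom d ≅ pullback G.hom T.hom :=
      pullbackLeftPullbackSndIso G.hom (S.fromSpecResidueField s) d ≪≫ pullback.congrHom rfl hd
    exact (Scheme.homeoOfIso e).surjective.connectedSpace (Scheme.homeoOfIso e).continuous
  haveI : IrreducibleSpace GK.left := irreducibleSpace_grp (F := K) (G := GK)
  haveI : IrreducibleSpace (G ⊗ T).left := ‹IrreducibleSpace GK.left›
  -- translates
  let x₁ := y ≫ fst X X
  let x₂ := y ≫ snd X X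
  obtain ⟨U, hU, hxU, -⟩ := exists_isAffineOpen_mem_and_subset (X := X.left) (x := x₁.left pt) (U := ⊤) trivial
  let a₁ := (G ◁ x₁) ≫ a.act
  let a₂ := (G ◁ x₂) ≫ a.act
  have h₁ : (a₁.left ⁻¹' (U : Set X.left)).Nonempty := by
    refine ⟨(lift (1 : T ⟶ G) (𝟙 T)).left pt, ?_⟩
    show a₁.left _ ∈ U
    rw [← Scheme.Hom.comp_apply, ← Over.comp_left]
    have e : lift (1 : T ⟶ G) (𝟙 T) ≫ a₁ = x₁ := by
      simp only [a₁, lift_whiskerLeft_assoc, Category.id_comp, GrpShear.lift_one_act]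
    rw [e]
    exact hxU
  have h₂ : (a₂.left ⁻¹' (U : Set X.left)).Nonempty := by
    obtain ⟨w, hw⟩ := (lift a.act (snd G X)).left.surjective z
    have hsnd : (snd G X).left w = x₂.left pt := by
      show _ = (y ≫ snd X X).left pt
      rw [Over.comp_left, Scheme.Hom.comp_apply, hy, ← hw, ← Scheme.Hom.comp_apply, ← Over.comp_left, lift_snd]
    obtain ⟨q, hq, -⟩ := Scheme.Pullback.exists_preimage_pullback (f := (snd G X).left) (g := x₂.left) w pt hsnd
    let P : Over S := Over.mk (pullback.fst (snd G X).left x₂.left ≫ (G ⊗ X).hom)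
    let k : P ⟶ G ⊗ X := Over.homMk (pullback.fst _ _)
    let t : P ⟶ T := Over.homMk (pullback.snd _ _) (by
      show pullback.snd _ _ ≫ T.hom = pullback.fst _ _ ≫ (G ⊗ X).hom
      rw [← Over.w x₂, ← pullback.condition_assoc, Over.w (snd G X)])
    have hk : t ≫ x₂ = k ≫ snd G X := Over.OverMorphism.ext pullback.condition.symm
    have e : lift (k ≫ fst G X) t ≫ a₂ = k ≫ a.act := by
      simp only [a₂, lift_whiskerLeft_assoc, hk, ← comp_lift, lift_fst_snd, Category.comp_id]
    refine ⟨(lift (k ≫ fst G X) t).left q, ?_⟩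
    show a₂.left _ ∈ U
    rw [← Scheme.Hom.comp_apply, ← Over.comp_left, e, Over.comp_left, Scheme.Hom.comp_apply]
    show a.act.left (pullback.fst (snd G X).left x₂.left q) ∈ U
    rw [hq]
    have e2 : a.act.left w = (fst X X).left z := by
      rw [← hw, ← Scheme.Hom.comp_apply, ← Over.comp_left, lift_fst]
    rw [e2, ← hy pt, ← Scheme.Hom.comp_apply, ← Over.comp_left]
    exact hxU
  obtain ⟨p, hp₁, hp₂⟩ := nonempty_preirreducible_inter (U.2.preimage a₁.left.continuous)
    (U.2.preimage a₂.left.continuous) h₁ h₂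
  let Y : Over S := Over.mk ((G ⊗ T).left.fromSpecResidueField p ≫ (G ⊗ T).hom)
  let h : Y ⟶ G ⊗ T := Over.homMk ((G ⊗ T).left.fromSpecResidueField p)
  haveI : IsReduced Y.left := inferInstanceAs (IsReduced (Spec ((G ⊗ T).left.residueField p)))
  haveI : Subsingleton Y.left := inferInstanceAs (Subsingleton (PrimeSpectrum ((G ⊗ T).left.residueField p)))
  let pY : Y.left := IsLocalRing.closedPoint ((G ⊗ T).left.residueField p)
  have hh : ∀ q, h.left q = p := fun q => Scheme.fromSpecResidueField_apply p q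
  let g := h ≫ fst G T
  let t := h ≫ snd G T
  have hmem := mem_closure_diag a g (t ≫ y) pY (by
    rw [Over.comp_left, Scheme.Hom.comp_apply, hy]
    exact hz)
  rw [Category.assoc, Category.assoc] at hmem
  let gy₁ := lift g (t ≫ x₁) ≫ a.act
  let gy₂ := lift g (t ≫ x₂) ≫ a.act
  have hg₁ : gy₁ = h ≫ a₁ := by
    have eh : lift g t = h := by simp [g, t, ← comp_lift]
    conv_rhs => rw [← eh]
    simp [gy₁, a₁]
  have hg₂ : gy₂ = h ≫ a₂ := by
    have eh : lift g t = h := by simp [g, t, ← comp_lift]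
    conv_rhs => rw [← eh]
    simp [gy₂, a₂]
  -- inside the affine open
  let Uo : Over S := Over.mk (U.ι ≫ X.hom)
  let j : Uo ⟶ X := Over.homMk U.ι
  haveI : IsAffine (U : Scheme.{u}) := hU
  haveI : IsSeparated Uo.hom := inferInstanceAs (IsSeparated (U.ι ≫ X.hom))
  have hr : ∀ (b : G ⊗ T ⟶ X), p ∈ b.left ⁻¹' (U : Set X.left) → Set.range (h ≫ b).left ⊆ Set.range U.ι := by
    intro b hb
    rintro _ ⟨q, rfl⟩
    rw [Scheme.Opens.range_ι, Over.comp_left, Scheme.Hom.comp_apply, hh]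
    exact hb
  let v₁ : Y ⟶ Uo := Over.homMk (IsOpenImmersion.lift U.ι gy₁.left (hg₁ ▸ hr a₁ hp₁)) (by
    show _ ≫ U.ι ≫ X.hom = Y.hom
    rw [IsOpenImmersion.lift_fac_assoc, Over.w])
  let v₂ : Y ⟶ Uo := Over.homMk (IsOpenImmersion.lift U.ι gy₂.left (hg₂ ▸ hr a₂ hp₂)) (by
    show _ ≫ U.ι ≫ X.hom = Y.hom
    rw [IsOpenImmersion.lift_fac_assoc, Over.w])
  have hv₁ : v₁ ≫ j = gy₁ := Over.OverMorphism.ext (IsOpenImmersion.lift_fac _ _ _)
  have hv₂ : v₂ ≫ j = gy₂ := Over.OverMorphism.ext (IsOpenImmersion.lift_fac _ _ _)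
  haveI : IsOpenImmersion j.left := inferInstanceAs (IsOpenImmersion U.ι)
  haveI : IsOpenImmersion (j ⊗ₘ j).left := by
    have : (j ⊗ₘ j).left = pullback.map Uo.hom Uo.hom X.hom X.hom j.left j.left (𝟙 S) (by simp) (by simp) := by
      refine pullback.hom_ext ?_ ?_
      · rw [pullback.lift_fst]
        exact (congrArg CommaMorphism.left (tensorHom_fst j j))
      · rw [pullback.lift_snd]
        exact (congrArg CommaMorphism.left (tensorHom_snd j j))
    rw [this]
    infer_instance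
  haveI : IsClosedImmersion (lift (𝟙 Uo) (𝟙 Uo)).left := by
    show IsClosedImmersion (pullback.diagonal Uo.hom)
    infer_instance
  let jj := j ⊗ₘ j
  have hjj : lift v₁ v₂ ≫ jj = lift gy₁ gy₂ := by simp only [jj, lift_map, hv₁, hv₂]
  have hq' : jj.left ((lift v₁ v₂).left pY) ∈ closure (Set.range (lift (𝟙 X) (𝟙 X)).left) := by
    rw [← Scheme.Hom.comp_apply, ← Over.comp_left, hjj]
    exact hmem
  have hqU : (lift v₁ v₂).left pY ∈ Set.range (lift (𝟙 Uo) (𝟙 Uo)).left := by
    have h1 : (lift v₁ v₂).left pY ∈ closure (jj.left ⁻¹' Set.range (lift (𝟙 X) (𝟙 X)).left) :=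
      jj.left.isOpenEmbedding.isOpenMap.preimage_closure_subset_closure_preimage hq'
    refine closure_minimal ?_ (lift (𝟙 Uo) (𝟙 Uo)).left.isClosedEmbedding.isClosed_range h1
    rintro v ⟨x, hx⟩
    have ex : (fst X X).left (jj.left v) = x := by
      rw [← hx, ← Scheme.Hom.comp_apply, ← Over.comp_left, lift_fst]
      rfl
    obtain ⟨xU, hxUeq⟩ : x ∈ Set.range j.left := by
      refine ⟨(fst Uo Uo).left v, ?_⟩
      rw [← ex, ← Scheme.Hom.comp_apply, ← Scheme.Hom.comp_apply, ← Over.comp_left, ← Over.comp_left, tensorHom_fst]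
    refine ⟨xU, jj.left.isOpenEmbedding.injective ?_⟩
    rw [← hx, ← hxUeq, ← Scheme.Hom.comp_apply, ← Scheme.Hom.comp_apply, ← Over.comp_left, ← Over.comp_left]
    simp [jj]
  have heq := eq_of_mem_range_diag v₁ v₂ pY hqU
  have hgy : gy₁ = gy₂ := by rw [← hv₁, ← hv₂, heq]
  have hcancel : ∀ x : Y ⟶ X, lift g⁻¹ (lift g x ≫ a.act) ≫ a.act = x := fun x => by
    rw [← GrpShear.lift_mul_act, inv_mul_cancel, GrpShear.lift_one_act]
  have hxx : t ≫ x₁ = t ≫ x₂ := by
    have h3 := congrArg (fun m => lift g⁻¹ m ≫ a.act) hgy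
    simpa only [gy₁, gy₂, hcancel] using h3
  refine ⟨(t ≫ x₁).left pY, ?_⟩
  rw [← Scheme.Hom.comp_apply, ← Over.comp_left, comp_lift, Category.comp_id]
  nth_rw 2 [hxx]
  have : lift (t ≫ x₁) (t ≫ x₂) = t ≫ y := by simp [x₁, x₂, ← comp_lift]
  rw [this, Over.comp_left, Scheme.Hom.comp_apply, hy]

end Groth.Agent.HomogSep
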